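import Cfsg.Agent.H935.K4.Co1Mats
import Cfsg.Agent.H518.Co13
import Cfsg.Agent.H419.Spor.Co1
import Cfsg.Agent.PreUniqCo.TrWord

/-!
# The centralizer of an element of order 13 of `Co1` and the traces of its elements (helper935)

`thirteen_data`: for the Klein four-group of `C(x) = ⟨x⟩ × A₄`.
-/

set_option autoImplicit false
set_option maxRecDepth 20000

namespace Cfsg.Agent.H935.K4.Co1Thirteen

open Subgroup Cfsg Cfsg.Agent.SporadicA Cfsg.Agent.SporadicStructure.Co0Matrix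
open Cfsg.Agent.CoOneType.CoEval Cfsg.Agent.LThreeCo1.Ev Cfsg.Agent.PreUniqCo.TrWord
open Cfsg.Agent.Co2Type.Mono (tr8 tr8_conj)
open Cfsg.Agent.H419.Spor.Co1 (chi)

/-! ### an abstract lemma -/

section abs

variable {G : Type*} [Group G] [Finite G] {x z1 z2 z3 t : G}

/-- the centralizer `13 × A₄` -/
theorem abs_cent (hx : orderOf x = 13) (hC : Nat.card (centralizer ({x} : Set G)) ∣ 2 ^ 2 * 3 * 13)
    (h11 : z1 * z1 = 1) (h22 : z2 * z2 = 1) (h33 : z3 * z3 = 1) (h12 : z1 * z2 = z3) (h21 : z2 * z1 = z3)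
    (hz1 : z1 ≠ 1) (hne : z1 ≠ z2) (ht3 : t ^ 3 = 1) (ht : t ≠ 1) (ht1 : t * z1 * t⁻¹ = z2) (ht2 : t * z2 * t⁻¹ = z3)
    (cz1 : z1 * x = x * z1) (cz2 : z2 * x = x * z2) (cz3 : z3 * x = x * z3) (ct : t * x = x * t)
    {c : G} (hc2 : c * c = 1) (hc : c * x = x * c) : c = 1 ∨ c = z1 ∨ c = z2 ∨ c = z3 := by
  have httt : t * t * t = 1 := by rw [← pow_two, ← pow_succ]; exact ht3
  have e13 : z1 * z3 = z2 := by rw [← h12, ← mul_assoc, h11, one_mul]
  have e31 : z3 * z1 = z2 := by rw [← h21, mul_assoc, h11, mul_one]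
  have e23 : z2 * z3 = z1 := by rw [← h21, ← mul_assoc, h22, one_mul]
  have e32 : z3 * z2 = z1 := by rw [← h12, mul_assoc, h22, mul_one]
  have hz2 : z2 ≠ 1 := by
    rintro rfl
    apply hz1
    rw [← e23, one_mul]
    rw [one_mul] at h21
    rw [← h21] at e23 ⊢
    have h5 : t * z1 * t⁻¹ = 1 := ht1
    have h6 := mul_inv_eq_one.1 h5
    exact mul_eq_left.1 h6
  have hz3 : z3 ≠ 1 := by
    intro h
    apply hz2
    rw [← e13, h, mul_one] at hz2 ⊢
    have h5 := ht2
    rw [h] at h5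
    have h6 := mul_eq_left.1 (mul_inv_eq_one.1 h5)
    rw [← e13, h, mul_one] at h6
    exact h6
  have h13 : z1 ≠ z3 := by
    intro h
    apply hz2
    rw [← h12] at h
    exact left_eq_mul.1 h
  have h23 : z2 ≠ z3 := by
    intro h
    apply hz1
    rw [← h21] at h
    exact left_eq_mul.1 h
  have i1 : z1⁻¹ = z1 := inv_eq_of_mul_eq_one_left h11
  have i2 : z2⁻¹ = z2 := inv_eq_of_mul_eq_one_left h22
  have i3 : z3⁻¹ = z3 := inv_eq_of_mul_eq_one_left h33
  -- the four-group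
  let W : Subgroup G :=
    { carrier := {x | x = 1 ∨ x = z1 ∨ x = z2 ∨ x = z3}
      one_mem' := Or.inl rfl
      mul_mem' := by
        rintro x y (rfl | rfl | rfl | rfl) (rfl | rfl | rfl | rfl) <;>
          simp only [Set.mem_ofPred_eq, one_mul, mul_one, h11, h22, h33, h12, h21, e13, e31, e23, e32, true_or, or_true]
      inv_mem' := by
        rintro x (rfl | rfl | rfl | rfl) <;>
          simp only [Set.mem_ofPred_eq, inv_one, i1, i2, i3, true_or, or_true] }
  have memW : ∀ x, x ∈ W ↔ (x = 1 ∨ x = z1 ∨ x = z2 ∨ x = z3) := fun x => Iff.rfl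
  have hW4 : Nat.card W = 4 := by
    let f : Fin 4 → W := ![⟨1, W.one_mem⟩, ⟨z1, Or.inr (Or.inl rfl)⟩, ⟨z2, Or.inr (Or.inr (Or.inl rfl))⟩,
      ⟨z3, Or.inr (Or.inr (Or.inr rfl))⟩]
    have hinj : Function.Injective f := by
      intro i j hij
      have h1 : (f i : G) = (f j : G) := congrArg Subtype.val hij
      fin_cases i <;> fin_cases j <;> first
        | rfl
        | exact absurd h1 hz1
        | exact absurd h1.symm hz1
        | exact absurd h1 hz2
        | exact absurd h1.symm hz2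
        | exact absurd h1 hz3
        | exact absurd h1.symm hz3
        | exact absurd h1 hne
        | exact absurd h1.symm hne
        | exact absurd h1 h13
        | exact absurd h1.symm h13
        | exact absurd h1 h23
        | exact absurd h1.symm h23
    have hsurj : Function.Surjective f := by
      rintro ⟨x, h⟩
      rcases h with h | h | h | h
      · exact ⟨0, Subtype.ext h.symm⟩
      · exact ⟨1, Subtype.ext h.symm⟩
      · exact ⟨2, Subtype.ext h.symm⟩
      · exact ⟨3, Subtype.ext h.symm⟩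
    have h4 := Nat.card_congr (Equiv.ofBijective f ⟨hinj, hsurj⟩)
    rw [Nat.card_fin] at h4
    exact h4.symm
  have mc : ∀ y : G, y * x = x * y → y ∈ centralizer ({x} : Set G) := fun y hy => mem_centralizer_singleton_iff.2 hy
  have hWC : W ≤ centralizer ({x} : Set G) := by
    rintro y (rfl | rfl | rfl | rfl)
    · exact one_mem _
    · exact mc _ cz1
    · exact mc _ cz2
    · exact mc _ cz3
  have ht3' : t * z3 * t⁻¹ = z1 := by
    rw [← ht2, ← ht1]
    calc _ = (t * t * t) * z1 * (t * t * t)⁻¹ := by simp only [mul_inv_rev, mul_assoc]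
      _ = z1 := by rw [httt]; group
  have key : ∀ y ∈ W, t * y * t⁻¹ ∈ W := by
    rintro y (rfl | rfl | rfl | rfl)
    · left; group
    · right; right; left; exact ht1
    · right; right; right; exact ht2
    · right; left; exact ht3'
  have htN : t ∈ normalizer (W : Set G) := by
    rw [mem_normalizer_iff]
    intro y
    refine ⟨key y, fun h => ?_⟩
    have h1 := key _ (key _ h)
    have h4 : y = t * (t * (t * y * t⁻¹) * t⁻¹) * t⁻¹ := by
      calc y = (t * t * t) * y * (t * t * t)⁻¹ := by rw [httt]; group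
        _ = _ := by simp only [mul_inv_rev, mul_assoc]
    rw [h4]
    exact h1
  have hxN : x ∈ normalizer (W : Set G) := by
    have h1 : ∀ y ∈ W, x * y * x⁻¹ = y := by
      intro y hy
      rw [mul_inv_eq_iff_eq_mul]
      exact (mem_centralizer_singleton_iff.1 (hWC hy)).symm
    rw [mem_normalizer_iff]
    intro y
    refine ⟨fun hy => by rw [h1 y hy]; exact hy, fun hy => ?_⟩
    have h2 := h1 _ hy
    have h3 : y = x⁻¹ * (x * y * x⁻¹) * x := by group
    have h5 : x * (x * y * x⁻¹) = (x * y * x⁻¹) * x := by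
      rw [← mul_inv_eq_iff_eq_mul]
      exact h2
    have h4 : y = x * y * x⁻¹ := by
      calc y = x⁻¹ * ((x * y * x⁻¹) * x) := by group
        _ = x⁻¹ * (x * (x * y * x⁻¹)) := by rw [h5]
        _ = _ := by group
    rw [h4]
    exact hy
  obtain ⟨N, hN⟩ : ∃ N : Subgroup G, N = normalizer (W : Set G) ⊓ centralizer ({x} : Set G) := ⟨_, rfl⟩
  have hWN : W ≤ N := by rw [hN]; exact le_inf le_normalizer hWC
  have hNC : N = centralizer ({x} : Set G) := by
    have hle : N ≤ centralizer ({x} : Set G) := by rw [hN]; exact inf_le_right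
    have hd4 : 4 ∣ Nat.card N := by
      rw [← hW4]
      exact card_dvd_of_le hWN
    have hd3 : 3 ∣ Nat.card N := by
      have : Fact (Nat.Prime 3) := ⟨Nat.prime_three⟩
      have hm : t ∈ N := by rw [hN]; exact ⟨htN, mc _ ct⟩
      have h2 := orderOf_dvd_natCard (⟨_, hm⟩ : N)
      rwa [Subgroup.orderOf_mk, orderOf_eq_prime ht3 ht] at h2
    have hd13 : 13 ∣ Nat.card N := by
      have hm : x ∈ N := by rw [hN]; exact ⟨hxN, mc _ rfl⟩
      have h2 := orderOf_dvd_natCard (⟨_, hm⟩ : N)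
      rwa [Subgroup.orderOf_mk, hx] at h2
    have hd : 2 ^ 2 * 3 * 13 ∣ Nat.card N := by
      refine Nat.Coprime.mul_dvd_of_dvd_of_dvd (by norm_num) ?_ hd13
      exact Nat.Coprime.mul_dvd_of_dvd_of_dvd (by norm_num) hd4 hd3
    apply eq_of_le_of_card_ge hle
    exact Nat.le_of_dvd Nat.card_pos (hC.trans hd)
  have hcardN : Nat.card N ∣ 39 * 4 := by rw [hNC]; exact hC
  have hWn : (W.subgroupOf N).Normal := by
    have h1 : N ≤ normalizer (W : Set G) := by rw [hN]; exact inf_le_left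
    exact (normal_subgroupOf_iff_le_normalizer hWN).2 h1
  have hcardW : Nat.card (W.subgroupOf N) = 4 := by
    rw [Nat.card_congr (subgroupOfEquivOfLe hWN).toEquiv, hW4]
  have hodd : Nat.card (N ⧸ W.subgroupOf N) ∣ 39 := by
    have h1 := (W.subgroupOf N).card_eq_card_quotient_mul_card_subgroup
    rw [h1, hcardW] at hcardN
    exact Nat.dvd_of_mul_dvd_mul_right (by norm_num) hcardN
  have hcN : c ∈ N := by rw [hNC]; exact mc _ hc
  have hmem : (⟨c, hcN⟩ : N) ∈ W.subgroupOf N := by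
    rw [← QuotientGroup.eq_one_iff]
    have h1 : (QuotientGroup.mk (⟨c, hcN⟩ : N) : N ⧸ W.subgroupOf N) ^ 2 = 1 := by
      rw [← QuotientGroup.mk_pow]
      have h2 : (⟨c, hcN⟩ : N) ^ 2 = 1 := Subtype.ext (by
        show c ^ 2 = 1
        rw [pow_two, hc2])
      rw [h2]
      rfl
    have h3 := orderOf_dvd_of_pow_eq_one h1
    have h4 := (orderOf_dvd_natCard (QuotientGroup.mk (⟨c, hcN⟩ : N) : N ⧸ W.subgroupOf N)).trans hodd
    have h5 := Nat.dvd_gcd h3 h4
    rw [← orderOf_eq_one_iff]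
    exact Nat.dvd_one.1 h5
  exact mem_subgroupOf.1 hmem

end abs

/-- the matrices -/
def M : ℕ → List (List ℤ)
  | 0 => Co1Mats.RA
  | 1 => Co1Mats.RB
  | _ => Co1Mats.RT

theorem okM (i : ℕ) : Ok (M i) (tr (M i)) := by
  unfold M
  split
  · exact Co1Mats.okA
  · exact Co1Mats.okB
  · exact Co1Mats.okT

/-- the elements -/
noncomputable def e (i : ℕ) : Co0 := mk (okM i)

theorem rep (i : ℕ) : Rep (e i) (M i) := rep_mk (okM i)

theorem k13 : eqB M [0, 0, 0, 0, 0, 0, 0, 0, 0, 0, 0, 0, 0] [] = true := by decide +kernel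
theorem kne : (neB M [0] && neB M [1] && neB M [2] && neB M [1, 2, 1, 2, 2]) = true := by decide +kernel
theorem kc1 : eqB M [0, 1] [1, 0] = true := by decide +kernel
theorem kc2 : eqB M [0, 2] [2, 0] = true := by decide +kernel
theorem k3 : eqB M [2, 2, 2] [] = true := by decide +kernel
theorem kb : negB M [1, 1] = true := by decide +kernel
theorem kb3 : eqB M [1, 2, 1, 2, 2, 2, 2, 1, 2] [] = true := by decide +kernel
theorem kt : (decide (trW M [0] = -16) && decide (trW M [0, 0] = -16) && decide (trW M [0, 0, 0] = -16) &&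
  decide (trW M [0, 0, 0, 0] = -16)) = true := by decide +kernel
theorem ktb : (decide (trW M [0, 1] = 0) && decide (trW M [0, 1, 0, 1] = 16) && decide (trW M [0, 1, 0, 1, 0, 1] = 0) &&
  decide (trW M [0, 1, 0, 1, 0, 1, 0, 1] = -16)) = true := by decide +kernel

/-- order 13 -/
noncomputable def a : Co0 := e 0
/-- square `-1` -/
noncomputable def b1 : Co0 := e 1
/-- order 3 -/
noncomputable def t : Co0 := e 2
/-- conjugate -/
noncomputable def b2 : Co0 := t * b1 * t⁻¹
/-- conjugate -/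
noncomputable def b3 : Co0 := t * b2 * t⁻¹

theorem word {w w' : List ℕ} (h : eqB M w w' = true) : (w.map e).prod = (w'.map e).prod := eq_of_eqB rep h

theorem a13 : a ^ 13 = 1 := by
  have h := word k13
  simp only [List.map_cons, List.map_nil, List.prod_cons, List.prod_nil, mul_one] at h
  simp only [pow_succ, pow_zero, one_mul, mul_assoc]
  exact h

theorem ab : a * b1 = b1 * a := by
  have h := word kc1
  simp only [List.map_cons, List.map_nil, List.prod_cons, List.prod_nil, mul_one] at h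
  exact h

theorem at' : a * t = t * a := by
  have h := word kc2
  simp only [List.map_cons, List.map_nil, List.prod_cons, List.prod_nil, mul_one] at h
  exact h

theorem t3 : t ^ 3 = 1 := by
  have h := word k3
  simp only [List.map_cons, List.map_nil, List.prod_cons, List.prod_nil, mul_one] at h
  rw [pow_succ, pow_two, mul_assoc]
  exact h

theorem t_inv : t⁻¹ = t * t := by
  rw [inv_eq_iff_mul_eq_one, ← mul_assoc, ← pow_two, ← pow_succ]
  exact t3

theorem bb : b1 * b1 = Co0Basic.negCo0 := by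
  have h := eq_neg_of_negB rep kb
  simp only [List.map_cons, List.map_nil, List.prod_cons, List.prod_nil, mul_one] at h
  exact h

theorem bbb : b1 * b2 * b3 = 1 := by
  have h := word kb3
  simp only [List.map_cons, List.map_nil, List.prod_cons, List.prod_nil, mul_one] at h
  have h2 : b3 = t * (t * (b1 * t)) := by
    have h3 : t⁻¹ * t⁻¹ = t := by
      rw [t_inv]
      calc t * t * (t * t) = t ^ 3 * t := by simp only [pow_succ, pow_zero, one_mul, mul_assoc]
        _ = t := by rw [t3, one_mul]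
    calc b3 = t * (t * b1 * (t⁻¹ * t⁻¹)) := by rw [b3, b2]; group
      _ = _ := by rw [h3]; group
  have h4 : b2 = t * (b1 * (t * t)) := by
    rw [b2, t_inv]; group
  rw [h2, h4]
  change b1 * (t * (b1 * (t * (t * (t * (t * (b1 * t))))))) = 1 at h
  rw [← h]
  group

/-! ### in `Co1` -/

theorem pa13 : pr a ^ 13 = 1 := by rw [← map_pow, a13, map_one]

theorem ne_a : pr a ≠ 1 := by
  have h := kne
  simp only [Bool.and_eq_true] at h
  have h1 := ne_one_of_neB rep h.1.1.1
  simp only [List.map_cons, List.map_nil, List.prod_cons, List.prod_nil, mul_one] at h1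
  exact h1

theorem ne_b : pr b1 ≠ 1 := by
  have h := kne
  simp only [Bool.and_eq_true] at h
  have h1 := ne_one_of_neB rep h.1.1.2
  simp only [List.map_cons, List.map_nil, List.prod_cons, List.prod_nil, mul_one] at h1
  exact h1

theorem ne_t : pr t ≠ 1 := by
  have h := kne
  simp only [Bool.and_eq_true] at h
  have h1 := ne_one_of_neB rep h.1.2
  simp only [List.map_cons, List.map_nil, List.prod_cons, List.prod_nil, mul_one] at h1
  exact h1

theorem z1_sq : pr b1 * pr b1 = 1 := by rw [← map_mul, bb]; exact pr_neg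

theorem pb2 : pr b2 = pr t * pr b1 * (pr t)⁻¹ := rfl

theorem pb3 : pr b3 = pr t * pr b2 * (pr t)⁻¹ := rfl

theorem z2_sq : pr b2 * pr b2 = 1 := by
  rw [pb2]
  calc _ = pr t * (pr b1 * pr b1) * (pr t)⁻¹ := by group
    _ = 1 := by rw [z1_sq]; group

theorem z3_sq : pr b3 * pr b3 = 1 := by
  rw [pb3]
  calc _ = pr t * (pr b2 * pr b2) * (pr t)⁻¹ := by group
    _ = 1 := by rw [z2_sq]; group

theorem z123 : pr b1 * pr b2 * pr b3 = 1 := by rw [← map_mul, ← map_mul, bbb, map_one]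

theorem z12 : pr b1 * pr b2 = pr b3 := by
  have h := z123
  have h3 : (pr b3)⁻¹ = pr b3 := inv_eq_of_mul_eq_one_left z3_sq
  rw [← h3]
  exact eq_inv_of_mul_eq_one_left h

theorem z21 : pr b2 * pr b1 = pr b3 := by
  have h1 : (pr b1)⁻¹ = pr b1 := inv_eq_of_mul_eq_one_left z1_sq
  have h2 : (pr b2)⁻¹ = pr b2 := inv_eq_of_mul_eq_one_left z2_sq
  have h3 : (pr b3)⁻¹ = pr b3 := inv_eq_of_mul_eq_one_left z3_sq
  calc pr b2 * pr b1 = (pr b2)⁻¹ * (pr b1)⁻¹ := by rw [h1, h2]
    _ = (pr b1 * pr b2)⁻¹ := by rw [mul_inv_rev]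
    _ = pr b3 := by rw [z12, h3]

theorem z12_ne : pr b1 ≠ pr b2 := by
  intro h
  have h1 := kne
  simp only [Bool.and_eq_true] at h1
  have h2 := ne_one_of_neB rep h1.2
  simp only [List.map_cons, List.map_nil, List.prod_cons, List.prod_nil, mul_one] at h2
  apply h2
  have h4 : pr b2 = pr t * (pr b1 * (pr t * pr t)) := by
    have h5 : b2 = t * (b1 * (t * t)) := by rw [b2, t_inv, mul_assoc]
    rw [h5]
    rfl
  change pr b1 * (pr t * (pr b1 * (pr t * pr t))) = 1
  rw [← h4, ← h, z1_sq]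

theorem comm1 : pr b1 * pr a = pr a * pr b1 := by rw [← map_mul, ← map_mul, ab]

theorem commt : pr t * pr a = pr a * pr t := by rw [← map_mul, ← map_mul, at']

theorem ab2 : a * b2 = b2 * a := by
  have h : Commute a b2 := by
    have h1 : Commute a b1 := ab
    have h2 : Commute a t := at'
    exact (h2.mul_right h1).mul_right h2.inv_right
  exact h

theorem ab3 : a * b3 = b3 * a := by
  have h : Commute a b3 := by
    have h1 : Commute a b2 := ab2
    have h2 : Commute a t := at'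
    exact (h2.mul_right h1).mul_right h2.inv_right
  exact h

theorem comm2 : pr b2 * pr a = pr a * pr b2 := by rw [← map_mul, ← map_mul, ab2]

theorem comm3 : pr b3 * pr a = pr a * pr b3 := by rw [← map_mul, ← map_mul, ab3]

theorem conj12 : IsConj (pr b1) (pr b2) := isConj_iff.2 ⟨pr t, pb2.symm⟩

theorem conj23 : IsConj (pr b2) (pr b3) := isConj_iff.2 ⟨pr t, pb3.symm⟩

theorem order_a : orderOf (pr a) = 13 := by
  have : Fact (Nat.Prime 13) := ⟨by norm_num⟩
  exact orderOf_eq_prime pa13 ne_a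

/-- the involutions of the centralizer -/
theorem cent_inv {c : Spor.Co1} (hc2 : c * c = 1) (hc : c * pr a = pr a * c) :
    c = 1 ∨ c = pr b1 ∨ c = pr b2 ∨ c = pr b3 := by
  have hfin0 := CpAutBig.CoZero.finite_co0
  have hfin : Finite Spor.Co1 := inferInstance
  exact abs_cent order_a (H518.Co13.cent_co1 order_a) z1_sq z2_sq z3_sq z12 z21 ne_b z12_ne
    (by rw [← map_pow, t3, map_one]) ne_t pb2.symm pb3.symm comm1 comm2 comm3 commt hc2 hc

/-! ### traces -/

theorem tr_a : tr8 a = -16 ∧ tr8 (a ^ 2) = -16 ∧ tr8 (a ^ 3) = -16 ∧ tr8 (a ^ 4) = -16 := by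
  have h := kt
  simp only [Bool.and_eq_true, decide_eq_true_eq] at h
  obtain ⟨⟨⟨h1, h2⟩, h3⟩, h4⟩ := h
  refine ⟨?_, ?_, ?_, ?_⟩
  · rw [← h1, ← tr8_word rep [0]]
    simp only [List.map_cons, List.map_nil, List.prod_cons, List.prod_nil, mul_one]
    rfl
  · rw [← h2, ← tr8_word rep [0, 0]]
    simp only [List.map_cons, List.map_nil, List.prod_cons, List.prod_nil, mul_one]
    rw [pow_two]
    rfl
  · rw [← h3, ← tr8_word rep [0, 0, 0]]
    simp only [List.map_cons, List.map_nil, List.prod_cons, List.prod_nil, mul_one]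
    rw [pow_succ, pow_two, mul_assoc]
    rfl
  · rw [← h4, ← tr8_word rep [0, 0, 0, 0]]
    simp only [List.map_cons, List.map_nil, List.prod_cons, List.prod_nil, mul_one]
    rw [pow_succ, pow_succ, pow_two, mul_assoc, mul_assoc]
    rfl

theorem tr_ab : tr8 (a * b1) = 0 ∧ tr8 ((a * b1) ^ 2) = 16 ∧ tr8 ((a * b1) ^ 3) = 0 ∧ tr8 ((a * b1) ^ 4) = -16 := by
  have h := ktb
  simp only [Bool.and_eq_true, decide_eq_true_eq] at h
  obtain ⟨⟨⟨h1, h2⟩, h3⟩, h4⟩ := h
  refine ⟨?_, ?_, ?_, ?_⟩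
  · rw [← h1, ← tr8_word rep [0, 1]]
    simp only [List.map_cons, List.map_nil, List.prod_cons, List.prod_nil, mul_one]
    rfl
  · rw [← h2, ← tr8_word rep [0, 1, 0, 1]]
    simp only [List.map_cons, List.map_nil, List.prod_cons, List.prod_nil, mul_one]
    rw [pow_two, mul_assoc]
    rfl
  · rw [← h3, ← tr8_word rep [0, 1, 0, 1, 0, 1]]
    simp only [List.map_cons, List.map_nil, List.prod_cons, List.prod_nil, mul_one]
    rw [pow_succ, pow_two]
    simp only [mul_assoc]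
    rfl
  · rw [← h4, ← tr8_word rep [0, 1, 0, 1, 0, 1, 0, 1]]
    simp only [List.map_cons, List.map_nil, List.prod_cons, List.prod_nil, mul_one]
    rw [pow_succ, pow_succ, pow_two]
    simp only [mul_assoc]
    rfl

theorem chi_eq (g : Co0) : chi g = (tr8 g : ℂ) / 8 := rfl

theorem conj_pow_t (x : Co0) (k : ℕ) : (a * (t * x * t⁻¹)) ^ k = t * (a * x) ^ k * t⁻¹ := by
  have h : a * (t * x * t⁻¹) = t * (a * x) * t⁻¹ := by
    rw [← mul_assoc, ← mul_assoc, at']
    group
  rw [h, conj_pow]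

theorem tr_b2 (k : ℕ) : tr8 ((a * b2) ^ k) = tr8 ((a * b1) ^ k) := by rw [b2, conj_pow_t, tr8_conj]

theorem tr_b3 (k : ℕ) : tr8 ((a * b3) ^ k) = tr8 ((a * b1) ^ k) := by rw [b3, conj_pow_t, tr8_conj, tr_b2]

theorem chi_ab (b : Co0) (hb : ∀ k : ℕ, tr8 ((a * b) ^ k) = tr8 ((a * b1) ^ k)) :
    chi (a * b) = 0 ∧ chi ((a * b) ^ 2) = 2 ∧ chi ((a * b) ^ 3) = 0 ∧ chi ((a * b) ^ 4) = -2 := by
  obtain ⟨h1, h2, h3, h4⟩ := tr_ab
  have h0 := hb 1
  rw [pow_one, pow_one] at h0
  refine ⟨?_, ?_, ?_, ?_⟩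
  · rw [chi_eq, h0, h1]; norm_num
  · rw [chi_eq, hb, h2]; norm_num
  · rw [chi_eq, hb, h3]; norm_num
  · rw [chi_eq, hb, h4]; norm_num

/-- **The data at order thirteen.** -/
theorem thirteen_data : ∃ a b1 b2 b3 : Co0,
    orderOf (pr a) = 13 ∧
    (pr b1 * pr b1 = 1 ∧ pr b2 * pr b2 = 1 ∧ pr b3 * pr b3 = 1) ∧ (pr b1 ≠ 1 ∧ pr b2 ≠ 1 ∧ pr b3 ≠ 1) ∧
    pr b1 * pr b2 = pr b3 ∧ pr b2 * pr b1 = pr b3 ∧ (pr b1 ≠ pr b2 ∧ pr b1 ≠ pr b3 ∧ pr b2 ≠ pr b3) ∧
    (pr b1 * pr a = pr a * pr b1 ∧ pr b2 * pr a = pr a * pr b2 ∧ pr b3 * pr a = pr a * pr b3) ∧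
    (IsConj (pr b1) (pr b2) ∧ IsConj (pr b1) (pr b3)) ∧
    (∀ c : Spor.Co1, IsConj (pr b1) c → c * pr a = pr a * c → c = pr b1 ∨ c = pr b2 ∨ c = pr b3) ∧
    (chi a = -2 ∧ chi (a ^ 2) = -2 ∧ chi (a ^ 3) = -2 ∧ chi (a ^ 4) = -2) ∧
    (chi (a * b1) = 0 ∧ chi ((a * b1) ^ 2) = 2 ∧ chi ((a * b1) ^ 3) = 0 ∧ chi ((a * b1) ^ 4) = -2) ∧
    (chi (a * b2) = 0 ∧ chi ((a * b2) ^ 2) = 2 ∧ chi ((a * b2) ^ 3) = 0 ∧ chi ((a * b2) ^ 4) = -2) ∧
    (chi (a * b3) = 0 ∧ chi ((a * b3) ^ 2) = 2 ∧ chi ((a * b3) ^ 3) = 0 ∧ chi ((a * b3) ^ 4) = -2) := by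
  have hb2ne : pr b2 ≠ 1 := by
    intro h
    rw [pb2] at h
    exact ne_b (mul_eq_left.1 (mul_inv_eq_one.1 h))
  have hb3ne : pr b3 ≠ 1 := by
    intro h
    rw [pb3] at h
    exact hb2ne (mul_eq_left.1 (mul_inv_eq_one.1 h))
  refine ⟨a, b1, b2, b3, order_a, ⟨z1_sq, z2_sq, z3_sq⟩, ⟨ne_b, hb2ne, hb3ne⟩, z12, z21, ⟨z12_ne, ?_, ?_⟩,
    ⟨comm1, comm2, comm3⟩, ⟨conj12, conj12.trans conj23⟩, ?_, ?_, chi_ab b1 (fun _ => rfl), chi_ab b2 tr_b2,
    chi_ab b3 tr_b3⟩
  · intro h
    rw [← z12] at h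
    exact hb2ne (left_eq_mul.1 h)
  · intro h
    rw [← z21] at h
    exact ne_b (left_eq_mul.1 h)
  · intro c hc hca
    have h2 : c * c = 1 := by
      obtain ⟨y, hy⟩ := isConj_iff.1 hc
      rw [← hy]
      calc _ = y * (pr b1 * pr b1) * y⁻¹ := by group
        _ = 1 := by rw [z1_sq]; group
    rcases cent_inv h2 hca with h | h
    · exfalso
      rw [h] at hc
      exact ne_b (isConj_one_left.1 hc)
    · exact h
  · obtain ⟨h1, h2, h3, h4⟩ := tr_a
    refine ⟨?_, ?_, ?_, ?_⟩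
    · rw [chi_eq, h1]; norm_num
    · rw [chi_eq, h2]; norm_num
    · rw [chi_eq, h3]; norm_num
    · rw [chi_eq, h4]; norm_num

end Cfsg.Agent.H935.K4.Co1Thirteen
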