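import Cfsg.Agent.LThreeCo1.Ev

/-!
# Elements of `Co0` commuting with an element of order 13 (helper935; matrices)
-/

set_option autoImplicit false
set_option maxRecDepth 20000

namespace Cfsg.Agent.H935.K4.Co1Mats

open Cfsg.Agent.LThreeCo1.Ev Cfsg.Agent.SporadicStructure.Co0Matrix Cfsg.Agent.CoOneType.CoEval

/-- order 13, trace -2 -/
def RA : List (List ℤ) := [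
  [-3, 1, -1, -3, 1, -1, 1, 1, -1, 1, -1, -1, 1, 1, -3, -3, -1, 1, -1, -1, -3, 1, 1, 1],
  [-1, -1, 1, -1, -1, 1, -1, -1, 5, -1, 1, 1, -1, -1, -1, -1, 1, -1, -3, 1, -1, -1, -1, 3],
  [-1, -1, 1, -1, 3, 1, -1, -1, 1, -1, 1, 1, 3, -1, -1, 3, 1, 3, 1, 1, -1, 3, -1, -1],
  [1, 1, -1, 1, 1, -1, 1, 1, -1, 1, -1, 3, 1, 1, 1, 1, -1, -3, -1, 3, -3, 1, -3, 1],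
  [1, 1, -1, -3, -3, -1, 1, -3, -1, 1, 3, 3, 1, 1, 1, 1, -1, 1, -1, -1, 1, 1, 1, 1],
  [1, 1, 3, 1, 1, -1, 1, -3, -1, -3, -1, -1, 1, 1, 1, -3, -1, 1, -1, 3, 1, 1, 1, 1],
  [-1, -1, 1, -1, -1, -3, -1, 3, 1, -1, 1, 1, 3, -1, -1, -1, -3, -1, 1, 1, 3, -1, -1, -1],
  [-1, -1, 1, -1, -1, 1, -1, -1, 1, -1, -3, 1, 3, 3, 3, -1, 1, -1, 1, -3, -1, -1, -1, -1],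
  [-1, -1, 1, -1, -1, 1, -1, -1, -3, -1, 1, 1, -1, -1, -1, -1, 1, -1, 5, 1, -1, -1, -1, 3],
  [1, 1, 3, -3, 1, -1, 1, 1, -1, 1, -1, -1, 1, -3, 1, 1, 3, -3, -1, -1, 1, 1, 1, 1],
  [1, 1, -1, 1, 1, -1, 1, 1, 3, 1, -1, -1, 1, 1, 1, 1, -1, 1, 3, -1, 1, 1, 1, 5],
  [1, 1, -1, -3, 1, -1, -3, 1, -1, -3, -1, -1, -3, 1, 1, 1, -1, 1, -1, -1, 1, 1, -3, 1],
  [3, -1, 1, -1, -1, 1, -1, 3, 1, -1, 1, 1, -1, 3, -1, -1, 1, -1, 1, 1, -1, 3, 3, -1],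
  [-1, -1, -3, -1, -1, 1, 3, -1, 1, -1, -3, 1, -1, -1, -1, -1, 1, -1, 1, 1, 3, 3, -1, -1],
  [3, -1, 1, -1, -1, -3, -1, -1, 1, 3, -3, 1, -1, -1, -1, -1, 1, 3, 1, 1, -1, -1, -1, -1],
  [3, 3, -3, -1, -1, 1, -1, -1, 1, -1, 1, -3, 3, -1, -1, -1, 1, -1, 1, 1, -1, -1, -1, -1],
  [1, -3, -1, -3, 1, 3, 1, 1, -1, 1, -1, -1, 1, 1, 1, 1, -1, 1, -1, 3, 1, -3, 1, 1],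
  [3, -1, 1, -1, 3, 1, 3, -1, 1, -1, 1, 1, -1, -1, -1, -1, -3, -1, 1, -3, -1, -1, -1, -1],
  [1, -3, -1, 1, 1, -1, -3, -3, -1, 1, -1, -1, 1, 1, -3, 1, -1, -3, -1, -1, 1, 1, 1, 1],
  [1, 1, 3, 1, -3, 3, 1, 1, -1, 1, -1, -1, 1, 1, -3, 1, -1, 1, -1, -1, 1, 1, -3, 1],
  [-1, -1, 1, -1, -1, 1, -1, -1, 1, 3, 1, -3, -1, -1, 3, -1, -3, -1, 1, 1, -1, 3, -1, -1],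
  [1, 1, -1, 1, 1, 3, -3, 1, -1, 1, -1, 3, 1, -3, 1, -3, -1, 1, -1, -1, 1, 1, 1, 1],
  [-1, 3, 1, -1, -1, 1, -1, -1, 1, -1, -3, 1, -1, -1, -1, 3, -3, -1, 1, 1, -1, -1, 3, -1],
  [1, -3, -1, 1, -3, -1, 1, 1, -1, -3, -1, -1, 1, -3, 1, 1, -1, 1, -1, -1, -3, 1, 1, 1]]

theorem okA : Ok RA (tr RA) := Cfsg.Agent.CoOneType.CoFast.ok_of_okZ (by decide +kernel)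

/-- square -1, commutes with `RA` -/
def RB : List (List ℤ) := [
  [0, 2, 0, 2, 0, 2, 0, -2, 2, 0, 0, 0, 2, 0, 2, -2, 4, 2, 0, 0, 2, -2, 0, 2],
  [-2, 0, -2, 0, 2, 0, 2, 0, 0, -2, -2, -2, 0, 2, 0, -4, -2, 0, -2, 2, 0, 0, 2, 0],
  [0, 2, 0, 2, 0, -2, 0, -2, -2, 0, 0, 0, 2, 0, -2, 2, 0, -2, 0, 4, 2, -2, 0, -2],
  [-2, 0, -2, 0, 2, 0, -2, 0, -4, 2, -2, 2, 0, 2, 0, 0, 2, 0, -2, -2, 0, 0, -2, 0],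
  [0, -2, 0, -2, 0, 2, 0, -2, 2, 0, 0, 0, 2, 0, -2, 2, 0, -2, -4, 0, 2, 2, 0, 2],
  [-2, 0, 2, 0, -2, 0, 2, 0, 0, -2, -2, -2, 0, 2, 0, 0, 2, -4, 2, -2, 0, 0, -2, 0],
  [0, -2, 0, 2, 0, -2, 0, -2, -2, 0, 0, -4, -2, 0, 2, 2, 0, 2, 0, 0, 2, 2, 0, 2],
  [2, 0, 2, 0, 2, 0, 2, 0, 0, 2, -2, -2, 0, -2, 0, 0, -2, 0, -2, -2, 0, -4, -2, 0],
  [-2, 0, 2, 4, -2, 0, 2, 0, 0, 2, 2, 2, 0, 2, 0, 0, -2, 0, -2, -2, 0, 0, 2, 0],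
  [0, 2, 0, -2, 0, 2, 0, -2, -2, 0, 0, 0, -2, 0, 2, 2, 0, -2, 0, 0, -2, -2, 4, 2],
  [0, 2, 0, 2, 0, 2, 0, 2, -2, 0, 0, 0, -2, -4, -2, -2, 0, -2, 0, 0, 2, 2, 0, 2],
  [0, 2, 0, -2, 0, 2, 4, 2, -2, 0, 0, 0, 2, 0, 2, 2, 0, 2, 0, 0, 2, 2, 0, -2],
  [-2, 0, -2, 0, -2, 0, 2, 0, 0, 2, 2, -2, 0, -2, 0, 0, 2, 0, -2, 2, -4, 0, -2, 0],
  [0, -2, 0, -2, 0, -2, 0, 2, -2, 0, 4, 0, 2, 0, 2, -2, 0, -2, 0, 0, 2, -2, 0, 2],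
  [-2, 0, 2, 0, 2, 0, -2, 0, 0, -2, 2, -2, 0, -2, 0, 0, 2, 0, -2, -2, 0, 0, 2, -4],
  [2, 4, -2, 0, -2, 0, -2, 0, 0, -2, 2, -2, 0, 2, 0, 0, -2, 0, -2, -2, 0, 0, -2, 0],
  [-4, 2, 0, -2, 0, -2, 0, 2, 2, 0, 0, 0, -2, 0, -2, 2, 0, 2, 0, 0, 2, -2, 0, 2],
  [-2, 0, 2, 0, 2, 4, -2, 0, 0, 2, 2, -2, 0, 2, 0, 0, -2, 0, 2, 2, 0, 0, -2, 0],
  [0, 2, 0, 2, 4, -2, 0, 2, 2, 0, 0, 0, 2, 0, 2, 2, 0, -2, 0, 0, -2, 2, 0, 2],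
  [0, -2, -4, 2, 0, 2, 0, 2, 2, 0, 0, 0, -2, 0, 2, 2, 0, -2, 0, 0, 2, -2, 0, -2],
  [-2, 0, -2, 0, -2, 0, -2, 0, 0, 2, -2, -2, 4, -2, 0, 0, -2, 0, 2, -2, 0, 0, 2, 0],
  [2, 0, 2, 0, -2, 0, -2, 4, 0, 2, -2, -2, 0, 2, 0, 0, 2, 0, -2, 2, 0, 0, 2, 0],
  [0, -2, 0, 2, 0, 2, 0, 2, -2, -4, 0, 0, 2, 0, -2, 2, 0, 2, 0, 0, -2, -2, 0, 2],
  [-2, 0, 2, 0, -2, 0, -2, 0, 0, -2, -2, 2, 0, -2, 4, 0, -2, 0, -2, 2, 0, 0, -2, 0]]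

theorem okB : Ok RB (tr RB) := Cfsg.Agent.CoOneType.CoFast.ok_of_okZ (by decide +kernel)

/-- order 3, commutes with `RA` -/
def RT : List (List ℤ) := [
  [-4, 4, 0, 0, 0, 0, 0, 0, 0, 0, 0, 0, 0, 0, 0, -4, 4, 0, 0, 0, 0, 0, 0, 0],
  [-4, -4, 0, 0, 0, 0, 0, 0, 0, 0, 0, 0, 0, 0, 0, -4, -4, 0, 0, 0, 0, 0, 0, 0],
  [0, 0, -4, 4, 0, 0, 0, 0, -4, 0, 0, 0, 0, 0, 0, 0, 0, 0, 0, 4, 0, 0, 0, 0],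
  [0, 0, -4, -4, 0, 0, 0, 0, -4, 0, 0, 0, 0, 0, 0, 0, 0, 0, 0, -4, 0, 0, 0, 0],
  [0, 0, 0, 0, -4, 0, 0, 0, 0, 0, 0, 0, 4, 0, 0, 0, 0, 0, -4, 0, 4, 0, 0, 0],
  [0, 0, 0, 0, 0, -4, 0, 0, 0, -4, 0, 0, 0, 0, 0, 0, 0, -4, 0, 0, 0, 0, -4, 0],
  [0, 0, 0, 0, 0, 0, -4, 0, 0, 0, 0, -4, 0, 0, 4, 0, 0, 0, 0, 0, 0, 0, 0, 4],
  [0, 0, 0, 0, 0, 0, 0, -4, 0, 0, -4, 0, 0, -4, 0, 0, 0, 0, 0, 0, 0, -4, 0, 0],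
  [0, 0, 4, 4, 0, 0, 0, 0, -4, 0, 0, 0, 0, 0, 0, 0, 0, 0, 0, -4, 0, 0, 0, 0],
  [0, 0, 0, 0, 0, 4, 0, 0, 0, -4, 0, 0, 0, 0, 0, 0, 0, -4, 0, 0, 0, 0, 4, 0],
  [0, 0, 0, 0, 0, 0, 0, 4, 0, 0, -4, 0, 0, -4, 0, 0, 0, 0, 0, 0, 0, 4, 0, 0],
  [0, 0, 0, 0, 0, 0, 4, 0, 0, 0, 0, -4, 0, 0, 4, 0, 0, 0, 0, 0, 0, 0, 0, -4],
  [0, 0, 0, 0, -4, 0, 0, 0, 0, 0, 0, 0, -4, 0, 0, 0, 0, 0, -4, 0, -4, 0, 0, 0],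
  [0, 0, 0, 0, 0, 0, 0, 4, 0, 0, 4, 0, 0, -4, 0, 0, 0, 0, 0, 0, 0, -4, 0, 0],
  [0, 0, 0, 0, 0, 0, -4, 0, 0, 0, 0, -4, 0, 0, -4, 0, 0, 0, 0, 0, 0, 0, 0, -4],
  [4, 4, 0, 0, 0, 0, 0, 0, 0, 0, 0, 0, 0, 0, 0, -4, -4, 0, 0, 0, 0, 0, 0, 0],
  [-4, 4, 0, 0, 0, 0, 0, 0, 0, 0, 0, 0, 0, 0, 0, 4, -4, 0, 0, 0, 0, 0, 0, 0],
  [0, 0, 0, 0, 0, 4, 0, 0, 0, 4, 0, 0, 0, 0, 0, 0, 0, -4, 0, 0, 0, 0, -4, 0],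
  [0, 0, 0, 0, 4, 0, 0, 0, 0, 0, 0, 0, 4, 0, 0, 0, 0, 0, -4, 0, -4, 0, 0, 0],
  [0, 0, -4, 4, 0, 0, 0, 0, 4, 0, 0, 0, 0, 0, 0, 0, 0, 0, 0, -4, 0, 0, 0, 0],
  [0, 0, 0, 0, -4, 0, 0, 0, 0, 0, 0, 0, 4, 0, 0, 0, 0, 0, 4, 0, -4, 0, 0, 0],
  [0, 0, 0, 0, 0, 0, 0, 4, 0, 0, -4, 0, 0, 4, 0, 0, 0, 0, 0, 0, 0, -4, 0, 0],
  [0, 0, 0, 0, 0, 4, 0, 0, 0, -4, 0, 0, 0, 0, 0, 0, 0, 4, 0, 0, 0, 0, -4, 0],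
  [0, 0, 0, 0, 0, 0, -4, 0, 0, 0, 0, 4, 0, 0, 4, 0, 0, 0, 0, 0, 0, 0, 0, -4]]

theorem okT : Ok RT (tr RT) := Cfsg.Agent.CoOneType.CoFast.ok_of_okZ (by decide +kernel)

end Cfsg.Agent.H935.K4.Co1Mats
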