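import Cfsg.Agent.H935.K4.Co1Thirteen

/-!
# Rationality of the elements of order 26 of `Co1` over an element of order 13 (helper935)
-/

set_option autoImplicit false
set_option maxRecDepth 20000

namespace Cfsg.Agent.H935.K4.Co1Thirteen

open Subgroup Cfsg Cfsg.Agent.SporadicA Cfsg.Agent.SporadicStructure.Co0Matrix
open Cfsg.Agent.CoOneType.CoEval Cfsg.Agent.LThreeCo1.Ev

/-- squares `RA`, commutes with `RB` -/
def RS : List (List ℤ) := [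
  [0, 2, -2, 0, 0, 4, 0, 0, 0, 0, 0, 4, 0, 0, -2, 0, -2, 0, 2, 2, -2, 0, 0, 2],
  [0, -2, 2, 0, 0, 4, 0, 0, 0, 0, 0, 4, 0, 0, 2, 0, 2, 0, -2, -2, 2, 0, 0, -2],
  [2, 0, 0, 2, 2, -2, -2, 2, 2, -2, -2, 2, 2, 2, 0, 2, 0, 2, 0, 0, 0, 2, 2, 0],
  [-2, 0, 0, 2, 2, 2, 2, -2, 2, -2, -2, -2, 2, 2, 0, -2, 0, 2, 0, 0, 0, -2, -2, 0],
  [-2, 0, 0, -2, -2, 2, -2, -2, 2, 2, -2, -2, 2, 2, 0, 2, 0, -2, 0, 0, 0, 2, 2, 0],
  [0, -2, -2, -4, 0, 0, 0, 0, 0, -4, 0, 0, 0, 0, 2, 0, 2, 0, 2, -2, -2, 0, 0, 2],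
  [0, 2, 2, 0, -4, 0, 0, 0, 0, 0, 0, 0, 0, 0, 2, 0, -2, 4, 2, -2, 2, 0, 0, 2],
  [4, -2, 2, 0, 0, 0, 0, -4, 0, 0, 0, 0, 0, 0, -2, 0, 2, 0, 2, 2, 2, 0, 0, 2],
  [2, 0, 0, 2, -2, 2, 2, 2, 2, -2, -2, -2, -2, -2, 0, 2, 0, -2, 0, 0, 0, -2, 2, 0],
  [0, -2, -2, 4, 0, 0, 0, 0, 0, 4, 0, 0, 0, 0, 2, 0, 2, 0, 2, -2, -2, 0, 0, 2],
  [4, 2, -2, 0, 0, 0, 0, -4, 0, 0, 0, 0, 0, 0, 2, 0, -2, 0, -2, -2, -2, 0, 0, -2],
  [0, -2, -2, 0, 0, 0, 0, 0, 0, 0, 0, 0, -4, 4, -2, 0, -2, 0, -2, -2, 2, 0, 0, 2],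
  [2, 0, 0, -2, -2, -2, 2, 2, 2, 2, -2, 2, 2, 2, 0, -2, 0, -2, 0, 0, 0, -2, -2, 0],
  [0, -2, 2, 0, 0, 0, 0, 0, 0, 0, 0, 0, 0, 0, -2, 4, -2, 0, 2, -2, -2, 0, -4, -2],
  [0, 2, 2, 0, 4, 0, 0, 0, 0, 0, 0, 0, 0, 0, 2, 0, -2, -4, 2, -2, 2, 0, 0, 2],
  [0, -2, 2, 0, 0, 0, -4, 0, 0, 0, 0, 0, 0, 0, 2, 0, -2, 0, -2, 2, -2, -4, 0, 2],
  [0, -2, 2, 0, 0, 0, 4, 0, 0, 0, 0, 0, 0, 0, 2, 0, -2, 0, -2, 2, -2, 4, 0, 2],
  [0, -2, -2, 0, 0, 0, 0, 0, -4, 0, -4, 0, 0, 0, 2, 0, -2, 0, 2, 2, 2, 0, 0, -2],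
  [2, 0, 0, -2, 2, 2, -2, 2, 2, 2, -2, -2, -2, -2, 0, -2, 0, 2, 0, 0, 0, 2, -2, 0],
  [2, 0, 0, -2, 2, 2, 2, 2, -2, 2, 2, -2, 2, 2, 0, 2, 0, 2, 0, 0, 0, -2, 2, 0],
  [2, 0, 0, 2, -2, 2, -2, 2, -2, -2, 2, -2, 2, 2, 0, -2, 0, -2, 0, 0, 0, 2, -2, 0],
  [0, -2, 2, 0, 0, 0, 0, 0, 0, 0, 0, 0, 0, 0, -2, -4, -2, 0, 2, -2, -2, 0, 4, -2],
  [0, 2, 2, 0, 0, 0, 0, 0, -4, 0, -4, 0, 0, 0, -2, 0, 2, 0, -2, -2, -2, 0, 0, 2],
  [0, 2, 2, 0, 0, 0, 0, 0, 0, 0, 0, 0, -4, 4, 2, 0, 2, 0, 2, 2, -2, 0, 0, -2]]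

theorem okS : Ok RS (tr RS) := Cfsg.Agent.CoOneType.CoFast.ok_of_okZ (by decide +kernel)

/-- the matrices -/
def M' : ℕ → List (List ℤ)
  | 0 => Co1Mats.RA
  | 1 => Co1Mats.RB
  | _ => RS

theorem okM' (i : ℕ) : Ok (M' i) (tr (M' i)) := by
  unfold M'
  split
  · exact Co1Mats.okA
  · exact Co1Mats.okB
  · exact okS

/-- the elements -/
noncomputable def e' (i : ℕ) : Co0 := mk (okM' i)

theorem rep' (i : ℕ) : Rep (e' i) (M' i) := rep_mk (okM' i)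

theorem ksa : eqB M' [2, 0] [0, 0, 2] = true := by decide +kernel
theorem ksb : eqB M' [2, 1] [1, 2] = true := by decide +kernel

/-- the element -/
noncomputable def s : Co0 := e' 2

theorem sa : s * a = a * a * s := by
  have h := eq_of_eqB rep' ksa
  simp only [List.map_cons, List.map_nil, List.prod_cons, List.prod_nil, mul_one] at h
  rw [mul_assoc]
  exact h

theorem sb : s * b1 = b1 * s := by
  have h := eq_of_eqB rep' ksb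
  simp only [List.map_cons, List.map_nil, List.prod_cons, List.prod_nil, mul_one] at h
  exact h

theorem abs_pow {G : Type*} [Group G] {x z s : G} (h1 : s * x = x * x * s) (h2 : s * z = z * s) (i : ℕ) :
    s ^ i * (z * x) * (s ^ i)⁻¹ = z * x ^ (2 ^ i) := by
  induction i with
  | zero => simp
  | succ i ih =>
    have h3 : ∀ n : ℕ, s * x ^ n * s⁻¹ = x ^ (2 * n) := by
      intro n
      rw [← conj_pow, h1, mul_assoc (x * x), mul_inv_cancel, mul_one, ← pow_two, ← pow_mul]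
    calc s ^ (i + 1) * (z * x) * (s ^ (i + 1))⁻¹ = s * (s ^ i * (z * x) * (s ^ i)⁻¹) * s⁻¹ := by
          rw [pow_succ', mul_inv_rev]
          simp only [mul_assoc]
      _ = (s * z * s⁻¹) * (s * x ^ (2 ^ i) * s⁻¹) := by rw [ih]; group
      _ = z * x ^ (2 ^ (i + 1)) := by
          rw [h3, h2, mul_assoc z, mul_inv_cancel, mul_one, pow_succ, mul_comm (2 ^ i)]

/-- the elements `z x` of order 26 are rational -/
theorem rational {k : ℕ} (hk : k.Coprime 26) : IsConj (pr b1 * pr a) ((pr b1 * pr a) ^ k) := by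
  have h1 : pr s * pr a = pr a * pr a * pr s := by rw [← map_mul, ← map_mul, ← map_mul, sa]
  have h2 : pr s * pr b1 = pr b1 * pr s := by rw [← map_mul, ← map_mul, sb]
  have hodd : Odd k := by
    have h3 : k.Coprime 2 := hk.coprime_dvd_right (by norm_num)
    exact Nat.coprime_two_right.1 h3
  have h13 : k.Coprime 13 := hk.coprime_dvd_right (by norm_num)
  have key : ∀ r < 13, Nat.Coprime r 13 → ∃ i < 12, 2 ^ i % 13 = r := by decide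
  obtain ⟨i, -, hi⟩ := key (k % 13) (Nat.mod_lt _ (by norm_num)) (by
    rw [Nat.coprime_iff_gcd_eq_one, ← Nat.gcd_rec, Nat.gcd_comm]
    exact h13)
  refine isConj_iff.2 ⟨pr s ^ i, ?_⟩
  rw [abs_pow h1 h2]
  have hc : Commute (pr b1) (pr a) := comm1
  have hz : pr b1 ^ k = pr b1 := by
    obtain ⟨m, rfl⟩ := hodd
    rw [pow_succ, pow_mul, pow_two, z1_sq, one_pow, one_mul]
  rw [hc.mul_pow, hz]
  congr 1
  rw [← pow_mod_orderOf, order_a, hi, ← pow_mod_orderOf (pr a) k, order_a]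

/-- the elements `x` of order 13 are rational -/
theorem rational_a {k : ℕ} (hk : k.Coprime 13) : IsConj (pr a) (pr a ^ k) := by
  have h1 : pr s * pr a = pr a * pr a * pr s := by rw [← map_mul, ← map_mul, ← map_mul, sa]
  have key : ∀ r < 13, Nat.Coprime r 13 → ∃ i < 12, 2 ^ i % 13 = r := by decide
  obtain ⟨i, -, hi⟩ := key (k % 13) (Nat.mod_lt _ (by norm_num)) (by
    rw [Nat.coprime_iff_gcd_eq_one, ← Nat.gcd_rec, Nat.gcd_comm]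
    exact hk)
  refine isConj_iff.2 ⟨pr s ^ i, ?_⟩
  have h2 := abs_pow (z := 1) h1 (by rw [mul_one, one_mul]) i
  rw [one_mul, one_mul] at h2
  rw [h2, ← pow_mod_orderOf, order_a, hi, ← pow_mod_orderOf (pr a) k, order_a]

theorem conj_z2 : IsConj (pr b1 * pr a) (pr b2 * pr a) := by
  refine isConj_iff.2 ⟨pr t, ?_⟩
  have h1 : pr t * pr a * (pr t)⁻¹ = pr a := by rw [commt, mul_assoc, mul_inv_cancel, mul_one]
  calc pr t * (pr b1 * pr a) * (pr t)⁻¹ = (pr t * pr b1 * (pr t)⁻¹) * (pr t * pr a * (pr t)⁻¹) := by group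
    _ = _ := by rw [h1, ← pb2]

theorem conj_z3 : IsConj (pr b1 * pr a) (pr b3 * pr a) := by
  refine conj_z2.trans (isConj_iff.2 ⟨pr t, ?_⟩)
  have h1 : pr t * pr a * (pr t)⁻¹ = pr a := by rw [commt, mul_assoc, mul_inv_cancel, mul_one]
  calc pr t * (pr b2 * pr a) * (pr t)⁻¹ = (pr t * pr b2 * (pr t)⁻¹) * (pr t * pr a * (pr t)⁻¹) := by group
    _ = _ := by rw [h1, ← pb3]

end Cfsg.Agent.H935.K4.Co1Thirteen
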